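import Mathlib.RingTheory.AdicCompletion.Basic
import Mathlib.RingTheory.Ideal.Span
import Mathlib.Algebra.Regular.SMul

/-!
# Rings complete for the topology of a principal ideal

Elementary dictionary: divisibility by `p ^ n`, limits of Cauchy sequences.
-/

set_option autoImplicit false
universe u

namespace K982.Padic

variable {A : Type u} [CommRing A]

theorem mem_pow_smul_top_iff (p : A) (n : ℕ) (x : A) :
    x ∈ (Ideal.span {p} ^ n • ⊤ : Submodule A A) ↔ p ^ n ∣ x := by
  rw [Ideal.span_singleton_pow, smul_eq_mul, Ideal.mul_top, Ideal.mem_span_singleton]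

theorem eq_zero_of_forall_dvd (p : A) [IsHausdorff (Ideal.span {p}) A] (x : A)
    (h : ∀ n : ℕ, p ^ n ∣ x) : x = 0 := by
  refine IsHausdorff.haus (I := Ideal.span {p}) inferInstance x fun n => ?_
  rw [SModEq.zero, mem_pow_smul_top_iff]
  exact h n

theorem exists_limit (p : A) [IsPrecomplete (Ideal.span {p}) A] (f : ℕ → A)
    (hf : ∀ n, p ^ n ∣ f (n + 1) - f n) : ∃ L : A, ∀ n, p ^ n ∣ L - f n := by
  have key : ∀ {m n : ℕ}, m ≤ n → p ^ m ∣ f n - f m := by
    intro m n hmn
    induction n, hmn using Nat.le_induction with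
    | base => simp
    | succ n hmn ih =>
      have : f (n + 1) - f m = (f (n + 1) - f n) + (f n - f m) := by ring
      rw [this]
      exact dvd_add ((pow_dvd_pow p hmn).trans (hf n)) ih
  obtain ⟨L, hL⟩ := IsPrecomplete.prec (I := Ideal.span {p}) inferInstance (f := f) (by
    intro m n hmn
    rw [SModEq.sub_mem, mem_pow_smul_top_iff]
    have := key hmn
    rw [← dvd_neg, neg_sub] at this
    exact this)
  refine ⟨L, fun n => ?_⟩
  have := hL n
  rw [SModEq.sub_mem, mem_pow_smul_top_iff, ← dvd_neg, neg_sub] at this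
  exact this

/-- A criterion for adic completeness with respect to a principal ideal. -/
theorem isAdicComplete_of (p : A) (h0 : ∀ x : A, (∀ n : ℕ, p ^ n ∣ x) → x = 0)
    (h1 : ∀ f : ℕ → A, (∀ n, p ^ n ∣ f (n + 1) - f n) → ∃ L : A, ∀ n, p ^ n ∣ L - f n) :
    IsAdicComplete (Ideal.span {p}) A where
  haus' := by
    intro x hx
    refine h0 x fun n => ?_
    have := hx n
    rwa [SModEq.zero, mem_pow_smul_top_iff] at this
  prec' := by
    intro f hf
    obtain ⟨L, hL⟩ := h1 f (fun n => by
      have := hf (Nat.le_succ n)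
      rw [SModEq.sub_mem, mem_pow_smul_top_iff, ← dvd_neg, neg_sub] at this
      exact this)
    refine ⟨L, fun n => ?_⟩
    rw [SModEq.sub_mem, mem_pow_smul_top_iff, ← dvd_neg, neg_sub]
    exact hL n

theorem dvd_of_mul {p : A} (hp : IsSMulRegular A p) {x y : A} (h : p * x = p * y) : x = y := hp h

theorem pow_regular {p : A} (hp : IsSMulRegular A p) (n : ℕ) {x y : A} (h : p ^ n * x = p ^ n * y) :
    x = y := by
  have := hp.pow n
  exact this h

end K982.Padic
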